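import Cfsg.Agent.R23.Glue

/-!
Lattices with roots, `D = 2, 4`.

PROOF.  B = bW b D, v = (0,D) ∈ Λ, B p v = p.2, B v v = D.  A root is (x,s), s ∈ ℤ, x - s y ∈ L (so x ∈ du), b x x = 2 - s²/D;
(τ g x, s) is a root (triv').  R from EU.fin, EL.lam.
exists_s: ven with a = v, c = a root r₀: if all roots have s = 0 then 0 = (∑ B r r₀²) D ≥ 4 D.
D = 2: s = ±1 gives norm 3/2 (var1 ✗), s = ±2 gives x = 0.  So ∑ B r v² = 8 (roots ±v).  ven with c = (l,0), 0 ≠ l ∈ L gives a root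
(x,0), x ≠ 0; ven with c = (x,0): ∑ B r c² = 8 is used up by r = ±c, so b (τ g x) x = 0 unless τ g x = ±x: idx23.
D = 4: s = ±1 gives norm 7/4 (var1 ✗); so a root with s = ±2, b x x = 1; mom: b (τ g x) x = 1 - k, norm of x + τ g x = 4 - 2k ≥ 0: idx23.
-/

set_option autoImplicit false

namespace Cfsg.Agent.R23

open Module LinearMap Matrix

variable {H : Type*} [Group H] {τ : H →* End ℚ V} {b : BF V} {σ : H} {y : V} {L : Submodule ℤ V}
  {D : ℕ}

theorem EL.v_mem (h : EL τ b σ y L D) : ((0 : V), (D : ℚ)) ∈ Lam L y D :=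
  (mem_Lam h.Dy).2 ⟨D, by simp, by simpa using h.Dy⟩

theorem EL.bW_v (h : EL τ b σ y L D) (p : V × ℚ) : bW b D p (0, D) = p.2 := by
  have := h.D0
  rw [bW_apply, map_zero, zero_add]; field_simp

theorem EL.exists_s (h : EL τ b σ y L D) (d : D = 2 ∨ D = 4 ∨ D = 6)
    (r : ∃ p ∈ Lam L y D, bW b D p p = 2) :
    ∃ (x : V) (s : ℤ), 0 < s ∧ x - s • y ∈ L ∧ b x x + s ^ 2 / D = 2 := by
  obtain ⟨R, hR⟩ := (h.lam d).fin
  obtain ⟨p, hp, e⟩ := r
  by_contra n
  have z : ∀ r ∈ R, r.2 = 0 := fun r hr => by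
    obtain ⟨m, a⟩ := (hR r).1 hr
    obtain ⟨s, e1, e2⟩ := (mem_Lam h.Dy).1 m
    rw [bW_apply, e1, ← sq] at a
    rcases lt_trichotomy s 0 with c | c | c
    · refine (n ⟨-r.1, -s, by omega, ?_, by simpa using a⟩).elim
      convert neg_mem e2 using 1
      rw [neg_smul]; abel
    · simp [e1, c]
    · exact (n ⟨r.1, s, c, e2, a⟩).elim
  have v := (h.lam d).ven hR h.v_mem hp
  simp only [h.bW_v] at v
  rw [Finset.sum_eq_zero fun r hr => by rw [z r hr]; simp, zero_mul] at v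
  have := Finset.single_le_sum (f := fun r => bW b D r p ^ 2) (fun r _ => sq_nonneg _)
    ((hR p).2 ⟨hp, e⟩)
  have d0 : (0 : ℚ) < D := by exact_mod_cast h.D0
  simp only [e] at this
  nlinarith

theorem TL.root_act (h : TL τ b σ y L D) {x : V} {s : ℤ} (a : x - s • y ∈ L) (g : H) :
    τ g x - s • y ∈ L := by
  convert add_mem (h.triv' ((h.dual x).2 ⟨s, a⟩) g) a using 1; abel

theorem TL.root2 [Finite H] (h : TL τ b σ y L 2) : Bad H := by
  classical
  have eu := h.lam (.inl rfl)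
  obtain ⟨R, hR⟩ := eu.fin
  have vm := h.v_mem
  have bv := h.bW_v
  have z : ∀ r ∈ R, r.2 = 0 ∨ r = (0, 2) ∨ r = (0, -2) := fun r hr => by
    obtain ⟨m, a⟩ := (hR r).1 hr
    obtain ⟨s, e1, e2⟩ := (mem_Lam h.Dy).1 m
    rw [bW_apply, e1] at a
    have p := h.toPD.nonneg r.1
    have v := h.var1 ((h.dual _).2 ⟨s, e2⟩)
    have e : b r.1 r.1 = 2 - s * s / 2 := by push_cast at a; linarith
    have : s * s ≤ 4 := by exact_mod_cast (by linarith : (s * s : ℚ) ≤ 4)
    obtain c | c | c | c | c : s = 0 ∨ s = 1 ∨ s = -1 ∨ s = 2 ∨ s = -2 := by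
      have : -3 < s := by nlinarith
      have : s < 3 := by nlinarith
      omega
    · exact .inl (by simp [e1, c])
    · rw [e, c] at v; norm_num at v
    · rw [e, c] at v; norm_num at v
    · exact .inr (.inl (Prod.ext (h.toPD.eq_zero (by rw [e, c]; norm_num)) (by simp [e1, c])))
    · exact .inr (.inr (Prod.ext (h.toPD.eq_zero (by rw [e, c]; norm_num)) (by simp [e1, c])))
  have s8 : ∑ r ∈ R, r.2 ^ 2 ≤ 8 := by
    rw [← Finset.sum_filter_ne_zero]
    refine (Finset.sum_le_sum_of_subset_of_nonneg (t := {(0, 2), (0, -2)}) (fun r hr => ?_)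
      fun _ _ _ => sq_nonneg _).trans ?_
    · rw [Finset.mem_filter] at hr
      simpa using (z r hr.1).resolve_left fun c => hr.2 (by simp [c])
    · rw [Finset.sum_pair (by simp; norm_num)]; norm_num
  have s0 : 0 < ∑ r ∈ R, r.2 ^ 2 := lt_of_lt_of_le (by norm_num)
    (Finset.single_le_sum (f := fun r : V × ℚ => r.2 ^ 2) (fun r _ => sq_nonneg _)
      ((hR _).2 ⟨vm, by simpa using bv _⟩))
  obtain ⟨x, x0, hx⟩ : ∃ x, x ≠ 0 ∧ (x, 0) ∈ R := by
    by_contra n
    have d0 : ((2 : ℕ) : ℤ) • y ≠ 0 := smul_ne_zero (by norm_num) h.y0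
    have v := eu.ven hR vm ((mem_Lam h.Dy (p := (((2 : ℕ) : ℤ) • y, 0))).2 ⟨0, by simp, by simpa using h.Dy⟩)
    simp only [bv] at v
    rw [Finset.sum_eq_zero (s := R) (f := fun r => bW b 2 r (((2 : ℕ) : ℤ) • y, 0) ^ 2) fun r hr => by
      have : r.1 = 0 := by
        rcases z r hr with c | rfl | rfl
        · by_contra a
          exact n ⟨r.1, a, c ▸ hr⟩
        · rfl
        · rfl
      simp [bW_apply, this], zero_mul, bW_apply] at v
    have := h.pos _ d0
    simp only [mul_zero, zero_div, add_zero] at v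
    exact (mul_pos s0 this).ne' v
  obtain ⟨m, a⟩ := (hR _).1 hx
  obtain ⟨s, e1, e2⟩ := (mem_Lam h.Dy).1 m
  have nx : b x x = 2 := by simpa [bW_apply] using a
  refine h.toR0.idx23 x0 fun g => ?_
  by_contra! n
  have v := eu.ven hR vm m
  simp only [bv, a] at v
  have : ∑ r ∈ {(x, 0), (-x, 0), (τ g x, 0)}, bW b 2 r (x, 0) ^ 2 ≤ ∑ r ∈ R, bW b 2 r (x, 0) ^ 2 := by
    refine Finset.sum_le_sum_of_subset_of_nonneg (fun r hr => ?_) fun _ _ _ => sq_nonneg _
    simp only [Finset.mem_insert, Finset.mem_singleton] at hr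
    rcases hr with rfl | rfl | rfl
    · exact hx
    · exact (hR _).2 ⟨by simpa using neg_mem m, by simp [bW_apply, nx]⟩
    · exact (hR _).2 ⟨(mem_Lam h.Dy).2 ⟨s, e1, h.root_act e2 g⟩, by simp [bW_apply, h.inv, nx]⟩
  have x1 : x ≠ -x := fun c => x0 (by
    have : (2 : ℚ) • x = 0 := by rw [two_smul]; exact add_eq_zero_iff_eq_neg.2 c
    simpa using this)
  rw [Finset.sum_insert (by simp [x1, n.1.symm]), Finset.sum_pair (by simp [n.2.1.symm])] at this
  simp only [bW_apply, map_neg, LinearMap.neg_apply, nx] at this v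
  have := sq_pos_of_ne_zero n.2.2
  push_cast at v
  linarith

theorem TL.root4 [Finite H] (h : TL τ b σ y L 4) (r : ∃ p ∈ Lam L y 4, bW b 4 p p = 2) : Bad H := by
  have := Fintype.ofFinite H
  obtain ⟨x, s, s0, m, a⟩ := h.exists_s (.inr (.inl rfl)) r
  have hx := (h.dual _).2 ⟨s, m⟩
  have p := h.toPD.nonneg x
  have v := h.var1 hx
  have e : b x x = 2 - s ^ 2 / 4 := by push_cast at a; linarith
  have : s ^ 2 ≤ 8 := by exact_mod_cast (by linarith : (s ^ 2 : ℚ) ≤ 8)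
  obtain rfl | rfl : s = 1 ∨ s = 2 := by
    have : s < 3 := by nlinarith
    omega
  · rw [e] at v; norm_num at v
  have e : b x x = 1 := by rw [e]; norm_num
  obtain ⟨k, e1, k0, kz, -⟩ := h.mom hx
  refine h.toR0.idx23 (w := x) (by rintro rfl; simp at e) fun g => ?_
  have n := h.toR0.norm_add g x
  have q := h.toPD.nonneg (x + τ g x)
  rw [e1, e] at n
  have : k g ≤ 2 := by exact_mod_cast (by linarith : (k g : ℚ) ≤ 2)
  obtain c | c | c : k g = 0 ∨ k g = 1 ∨ k g = 2 := by have := k0 g; omega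
  · exact .inl ((kz g).1 c)
  · exact .inr (.inr (by rw [e1, e, c]; simp))
  · exact .inr (.inl (eq_neg_of_add_eq_zero_right (h.toPD.eq_zero (by rw [n, c]; norm_num))))

end Cfsg.Agent.R23
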